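import Cfsg.Agent.Spor.Prim
import Cfsg.Agent.Spor.C3Sa.Main
import Cfsg.Agent.Spor.C3Sa.S.C0

set_option autoImplicit false
set_option maxRecDepth 100000000
set_option Elab.async false

namespace Cfsg.Agent.Spor.C3Sa.S

theorem hU : U.Ok 6 := U.ok_of 6 (show AllP (fun n => Net.okb 6 n = true) [n0, n1, n2, n3, n4, n5, n6, n7] from AllP.cons ok0 (AllP.cons ok1 (AllP.cons ok2 (AllP.cons ok3 (AllP.cons ok4 (AllP.cons ok5 (AllP.cons ok6 (AllP.cons ok7 (AllP.nil)))))))))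

theorem hfP : ∀ j < 6, U.fP [1, 3, 5, 7, 9, 11] j = fP j := by
  intro j hj
  interval_cases j <;> rfl
theorem eG : gsub 6 fP = U.lsub W1 := (gsub_congr hfP).symm.trans (lsub_eq_gsub U [1, 3, 5, 7, 9, 11])
theorem upz1 : ev (atm 6 fP) [0] = U.τ 1 := pz1
theorem upz3 : ev (atm 6 fP) [2] = U.τ 3 := pz2
theorem upz5 : ev (atm 6 fP) [4] = U.τ 5 := pz3
theorem upz7 : ev (atm 6 fP) [6] = U.τ 7 := pz4
theorem upz9 : ev (atm 6 fP) [8] = U.τ 9 := pz5
theorem upz11 : ev (atm 6 fP) [10] = U.τ 11 := pz6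
theorem upz13 : ev (atm 6 fP) [11, 9] = U.τ 13 := pz13
theorem upz15 : ev (atm 6 fP) [9, 3, 11, 6, 5, 10, 6, 2, 8] = U.τ 15 := pz15
theorem eH : wsub 6 fP BW = U.lsub W2 :=
  lsub_eq_of_all₂ (show List.Forall₂ _ [[11, 9], [9, 3, 11, 6, 5, 10, 6, 2, 8], [0], [6]] [[13], [15], [1], [7]] from List.Forall₂.cons (upz13.trans (one_mul _).symm) (List.Forall₂.cons (upz15.trans (one_mul _).symm) (List.Forall₂.cons (upz1.trans (one_mul _).symm) (List.Forall₂.cons (upz7.trans (one_mul _).symm) (List.Forall₂.nil)))))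
theorem reach5 : Reach (U.lsub W2) 6 M3 := (Reach.grow hU (Reach.base _ 6) gr4)
theorem reach8 : Reach (U.lsub ([9, 11] :: W2)) 0 (ones 63) := (Reach.grow hU (Reach.base _ 0) gr7)
theorem reach11 : Reach (U.lsub W2) 1 M9 := (Reach.grow hU (Reach.base _ 1) gr10)
theorem reach14 : Reach (U.lsub ([9] :: W2)) 0 (ones 63) := (Reach.grow hU (Reach.base _ 0) gr13)
noncomputable def X : List SubO := [([9, 11], 6, M3), ([9], 1, M9)]
theorem hX : AllP (SubOk U W2 W1) X :=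
  show AllP (SubOk U W2 W1) [([9, 11], 6, M3), ([9], 1, M9)] from AllP.cons ⟨U.mem_letters (by decide), (hU.sends sd6), reach5⟩ (AllP.cons ⟨U.mem_letters (by decide), (hU.sends sd12), reach11⟩ (AllP.nil))
theorem hXc : subCov 63 X = true := by decide +kernel
theorem hY : AllP (fun x : SubO => Reach (U.lsub (x.1 :: W2)) 0 (ones 63)) X :=
  show AllP (fun x : SubO => Reach (U.lsub (x.1 :: W2)) 0 (ones 63)) [([9, 11], 6, M3), ([9], 1, M9)] from AllP.cons reach8 (AllP.cons reach14 (AllP.nil))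
theorem hfix : gsub 6 fP ≤ FixFrom 63 := (gsub_congr hfP).symm.le.trans (hU.gsub_fix (gs := [1, 3, 5, 7, 9, 11]) (AllP.cons ff15 (AllP.cons ff16 (AllP.cons ff17 (AllP.cons ff18 (AllP.cons ff19 (AllP.cons ff20 (AllP.nil))))))))

end Cfsg.Agent.Spor.C3Sa.S
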